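import Groth.Agent.PurityLiftLib.Sections

/-!
# Sections over an open subscheme containing the complement of a closed subset of an affine scheme
-/

set_option autoImplicit false
set_option linter.style.haveILetI false
universe u

open CategoryTheory AlgebraicGeometry Opposite TopologicalSpace

noncomputable section

namespace PurityDescLib

variable {X W : Scheme.{u}} [IsAffine X] (j : W ⟶ X) [IsOpenImmersion j] {A : Type u} [CommRing A]
  (ρ : A →+* Γ(X, ⊤)) {m : Ideal A} (hm : m.FG)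

theorem exists_eq_zero_of_appTop_eq_zero {h : Γ(X, ⊤)} (hh : X.basicOpen h ≤ j.opensRange) {b : Γ(X, ⊤)}
    (hb : j.appTop b = 0) : ∃ n : ℕ, h ^ n * b = 0 := by
  refine PurityLiftLib.exists_pow_mul_res_eq_zero h b le_rfl ?_
  haveI := j.isIso_app _ hh
  refine ((CategoryTheory.ConcreteCategory.bijective_of_isIso (j.app (X.basicOpen h))).1 ?_)
  rw [map_zero, ← CommRingCat.comp_apply, j.naturality, CommRingCat.comp_apply]
  exact (congrArg _ hb).trans (map_zero _)

theorem exists_mem_range_of_le_opensRange [CompactSpace W] [QuasiSeparatedSpace W] {h : Γ(X, ⊤)}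
    (hh : X.basicOpen h ≤ j.opensRange) (z : Γ(W, ⊤)) :
    ∃ (n : ℕ) (b : Γ(X, ⊤)), j.appTop b = j.appTop h ^ n * z := by
  haveI := j.isIso_app _ hh
  obtain ⟨w, hw⟩ := (CategoryTheory.ConcreteCategory.bijective_of_isIso (j.app (X.basicOpen h))).2
    (W.presheaf.map (homOfLE (le_top : j ⁻¹ᵁ X.basicOpen h ≤ ⊤)).op z)
  haveI := (isAffineOpen_top X).isLocalization_basicOpen h
  obtain ⟨⟨b, ⟨_, n, rfl⟩⟩, hb⟩ := IsLocalization.surj (Submonoid.powers h) w
  have hb' : w * X.presheaf.map (homOfLE le_top).op (h ^ n) = X.presheaf.map (homOfLE le_top).op b := hb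
  have hb'' := congrArg (j.app (X.basicOpen h)) hb'
  rw [map_mul, hw, ← CommRingCat.comp_apply, ← CommRingCat.comp_apply, j.naturality, CommRingCat.comp_apply,
    CommRingCat.comp_apply] at hb''
  have hD : W.basicOpen (j.appTop h) ≤ j ⁻¹ᵁ X.basicOpen h := (j.preimage_basicOpen_top h).ge
  obtain ⟨l, hl⟩ := PurityLiftLib.exists_pow_mul_res_eq_zero (j.appTop h) (j.appTop b - j.appTop h ^ n * z) hD (by
    rw [map_sub, map_mul, sub_eq_zero, ← map_pow]
    exact hb''.symm.trans (mul_comm _ _))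
  refine ⟨l + n, h ^ l * b, ?_⟩
  rw [map_mul, map_pow, ← sub_eq_zero, ← hl]
  ring

include hm

theorem exists_pow_mul_eq_zero (hW : ∀ a ∈ m, X.basicOpen (ρ a) ≤ j.opensRange) {b : Γ(X, ⊤)}
    (hb : j.appTop b = 0) : ∃ k : ℕ, ∀ a ∈ m ^ k, ρ a * b = 0 := by
  let J : Ideal A :=
    { carrier := {a | ρ a * b = 0}
      add_mem' := fun {x y} hx hy => by
        rw [Set.mem_setOf_eq] at *
        rw [map_add, add_mul, hx, hy, add_zero]
      zero_mem' := by rw [Set.mem_setOf_eq, map_zero, zero_mul]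
      smul_mem' := fun c x hx => by
        rw [Set.mem_setOf_eq] at *
        rw [smul_eq_mul, map_mul, mul_assoc, hx, mul_zero] }
  obtain ⟨k, hk⟩ := Ideal.exists_pow_le_of_le_radical_of_fg (I := m) (J := J) (fun a ha => by
    obtain ⟨n, hn⟩ := exists_eq_zero_of_appTop_eq_zero j (hW a ha) hb
    exact ⟨n, show ρ (a ^ n) * b = 0 by rw [map_pow]; exact hn⟩) hm
  exact ⟨k, fun a ha => hk ha⟩

theorem exists_pow_mul_mem_range [CompactSpace W] [QuasiSeparatedSpace W]
    (hW : ∀ a ∈ m, X.basicOpen (ρ a) ≤ j.opensRange) (z : Γ(W, ⊤)) :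
    ∃ k : ℕ, ∀ a ∈ m ^ k, ∃ b, j.appTop b = j.appTop (ρ a) * z := by
  let J : Ideal A :=
    { carrier := {a | ∃ b, j.appTop b = j.appTop (ρ a) * z}
      add_mem' := fun {x y} ⟨b, hb⟩ ⟨b', hb'⟩ => ⟨b + b', by rw [map_add, hb, hb', map_add, map_add, add_mul]⟩
      zero_mem' := ⟨0, by rw [map_zero, map_zero, map_zero, zero_mul]⟩
      smul_mem' := fun c x ⟨b, hb⟩ => ⟨ρ c * b, by
        rw [smul_eq_mul, map_mul, hb, map_mul, map_mul, mul_assoc]⟩ }
  obtain ⟨k, hk⟩ := Ideal.exists_pow_le_of_le_radical_of_fg (I := m) (J := J) (fun a ha => by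
    obtain ⟨n, b, hb⟩ := exists_mem_range_of_le_opensRange j (hW a ha) z
    exact ⟨n, b, by rw [map_pow, map_pow]; exact hb⟩) hm
  exact ⟨k, fun a ha => hk ha⟩

end PurityDescLib
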