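import Groth.Agent.PurityDescLib.Alg
import Groth.Agent.PurityDescLib.Torsion
import Groth.Agent.PurityGlueLib.Square
import Groth.Agent.H0Lib.Descent
import Groth.Agent.AlgSpLib.QAffDescent

/-!
# A cover of an open subscheme which extends after a dense faithfully flat extension extends
-/

set_option autoImplicit false
set_option linter.style.haveILetI false
universe u

open CategoryTheory CategoryTheory.Limits AlgebraicGeometry
open scoped TensorProduct

noncomputable section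

namespace PurityDescLib

/-- The morphism into an affine scheme given by a map of rings. -/
def toSpec (X : Scheme.{u}) {R : CommRingCat.{u}} (φ : R ⟶ Γ(X, ⊤)) : X ⟶ Spec R :=
  X.toSpecΓ ≫ Spec.map φ

theorem toSpec_map {X : Scheme.{u}} {R R' : CommRingCat.{u}} (φ : R ⟶ Γ(X, ⊤)) (ψ : R' ⟶ R) :
    toSpec X φ ≫ Spec.map ψ = toSpec X (ψ ≫ φ) := by
  rw [toSpec, toSpec, Category.assoc, ← Spec.map_comp]

theorem comp_toSpec {X Y : Scheme.{u}} {R : CommRingCat.{u}} (k : X ⟶ Y) (φ : R ⟶ Γ(Y, ⊤)) :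
    k ≫ toSpec Y φ = toSpec X (φ ≫ k.appTop) := by
  rw [toSpec, toSpec, Scheme.toSpecΓ_naturality_assoc, ← Spec.map_comp]

theorem toSpec_appTop {X : Scheme.{u}} {R : CommRingCat.{u}} (f : X ⟶ Spec R) :
    toSpec X ((Scheme.ΓSpecIso R).inv ≫ f.appTop) = f := by
  refine ext_of_isAffine ?_
  rw [toSpec, Scheme.Hom.comp_appTop, Scheme.toSpecΓ_appTop, Scheme.ΓSpecIso_naturality]
  exact Iso.hom_inv_id_assoc _ _

section Ring

variable {A Ah S B' : Type u} [CommRing A] [CommRing Ah] [Algebra A Ah] [Module.FaithfullyFlat A Ah]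
  [CommRing S] [Algebra A S] [CommRing B'] [Algebra Ah B'] [Algebra A B'] [IsScalarTower A Ah B']

/-- The model over the base as an object of `CommRingCat`. -/
theorem exists_model {m : Ideal A}
    (hdense : ∀ (k : ℕ) (c : Ah), ∃ a : A, c - algebraMap A Ah a ∈ (m ^ k).map (algebraMap A Ah))
    (β : B' →ₐ[Ah] Ah ⊗[A] S) (hker : ∀ b, β b = 0 → ∃ k : ℕ, ∀ a ∈ m ^ k, algebraMap A Ah a • b = 0)
    (hcok : ∀ z, ∃ k : ℕ, ∀ a ∈ m ^ k, algebraMap A Ah a • z ∈ β.toLinearMap.range)
    [Module.Finite Ah B'] [Algebra.Etale Ah B'] :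
    ∃ (M : CommRingCat.{u}) (iM : CommRingCat.of A ⟶ M) (iMB : M ⟶ CommRingCat.of B')
      (iMS : M ⟶ CommRingCat.of S),
      FEt.prop (Spec.map iM) ∧
      IsPushout (CommRingCat.ofHom (algebraMap A Ah)) iM (CommRingCat.ofHom (algebraMap Ah B')) iMB ∧
      iM ≫ iMS = CommRingCat.ofHom (algebraMap A S) ∧
      ∀ x, (1 : Ah) ⊗ₜ[A] iMS.hom x = β (iMB.hom x) := by
  let c : Ah ⊗[A] Mod β ≃ₐ[Ah] B' := AlgEquiv.ofBijective _ (bijective_comparison β hdense hker hcok)
  haveI : Module.Finite Ah (Ah ⊗[A] Mod β) := Module.Finite.equiv c.symm.toLinearEquiv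
  haveI : Algebra.Etale Ah (Ah ⊗[A] Mod β) := Algebra.Etale.of_equiv c.symm
  haveI : Module.Finite A (Mod β) := Module.Finite.of_finite_tensorProduct_of_faithfullyFlat Ah
  haveI : Algebra.Etale A (Mod β) := Algebra.Etale.of_etale_tensorProduct_of_faithfullyFlat Ah
  refine ⟨CommRingCat.of (Mod β), CommRingCat.ofHom (algebraMap A (Mod β)),
    CommRingCat.ofHom ((AlgHom.snd A S B').comp (Mod β).val).toRingHom,
    CommRingCat.ofHom ((AlgHom.fst A S B').comp (Mod β).val).toRingHom,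
    ⟨(IsFinite.SpecMap_iff _).mpr (RingHom.finite_algebraMap.mpr inferInstance),
      (HasRingHomProperty.Spec_iff (P := @Etale)).mpr (RingHom.etale_algebraMap.mpr inferInstance)⟩,
    ?_, CommRingCat.hom_ext (RingHom.ext fun _ => rfl), fun x => (mem_Mod β _).1 x.2⟩
  exact (CommRingCat.isPushout_tensorProduct A Ah (Mod β)).of_iso (Iso.refl _) (Iso.refl _) (Iso.refl _)
    c.toRingEquiv.toCommRingCatIso (by simp) (by simp)
    (CommRingCat.hom_ext (RingHom.ext fun x => c.commutes x))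
    (CommRingCat.hom_ext (RingHom.ext fun x => (comparison_tmul β 1 x).trans (one_smul _ _)))

end Ring

variable {A Ah : Type u} [CommRing A] [CommRing Ah] [Algebra A Ah] [IsNoetherianRing A]
  [Module.FaithfullyFlat A Ah] (m : Ideal A) (U : (Spec (CommRingCat.of A)).Opens)

/-- Descent of extensions, for the morphisms. -/
theorem exists_isPullback_of_extends
    (hdense : ∀ (k : ℕ) (c : Ah), ∃ a : A, c - algebraMap A Ah a ∈ (m ^ k).map (algebraMap A Ah))
    (hU : ∀ a ∈ m, (Spec (CommRingCat.of A)).basicOpen ((Scheme.ΓSpecIso (CommRingCat.of A)).inv a) ≤ U)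
    {W T U' W' : Scheme.{u}} (p : W ⟶ U) (hp : FEt.prop p) (y : T ⟶ Spec (CommRingCat.of Ah)) (hy : FEt.prop y)
    {r : U' ⟶ U} {s : U' ⟶ Spec (CommRingCat.of Ah)}
    (sU : IsPullback r s U.ι (Spec.map (CommRingCat.ofHom (algebraMap A Ah))))
    {a : W' ⟶ W} {b : W' ⟶ U'} (sW : IsPullback a b p r) {j : W' ⟶ T} (sqj : IsPullback j b y s) :
    ∃ (Z : Scheme.{u}) (z : Z ⟶ Spec (CommRingCat.of A)) (k : W ⟶ Z), FEt.prop z ∧ IsPullback k p z U.ι := by
  let g : Spec (CommRingCat.of Ah) ⟶ Spec (CommRingCat.of A) := Spec.map (CommRingCat.ofHom (algebraMap A Ah))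
  let φA : CommRingCat.of A ⟶ CommRingCat.of Ah := CommRingCat.ofHom (algebraMap A Ah)
  have hφ : φA.hom.FaithfullyFlat := (RingHom.faithfullyFlat_algebraMap_iff).2 inferInstance
  haveI : Flat g := (HasRingHomProperty.Spec_iff (P := @Flat)).mpr hφ.flat
  haveI : Surjective g := ⟨PrimeSpectrum.comap_surjective_of_faithfullyFlat (A := A) (B := Ah)⟩
  haveI : IsFinite p := hp.1
  haveI : IsFinite y := hy.1
  haveI : CompactSpace (U : Scheme.{u}) := isCompact_iff_compactSpace.mp (TopologicalSpace.NoetherianSpace.isCompact _)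
  haveI : CompactSpace W := QuasiCompact.compactSpace_of_compactSpace p
  let f : W ⟶ Spec (CommRingCat.of A) := p ≫ U.ι
  haveI : QuasiSeparatedSpace W := quasiSeparatedSpace_of_quasiSeparated f
  haveI : QuasiCompact f := quasiCompact_of_compactSpace f
  have sq : IsPullback a (b ≫ s) f g := sW.paste_vert sU
  have hpo := H0Lib.isPushout_ring sq hφ.flat
  let iS : CommRingCat.of A ⟶ CommRingCat.of Γ(W, ⊤) := (Scheme.ΓSpecIso _).inv ≫ f.appTop
  letI : Algebra A Γ(W, ⊤) := iS.hom.toAlgebra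
  obtain ⟨e, he⟩ := AlgSpLib.exists_tensor_equiv (R := A) (S := Ah) (R' := Γ(W, ⊤))
    (D := Γ(W', ⊤)) (a := φA) (b := iS) hpo.flip rfl rfl
  -- the affine scheme over the completion
  haveI : IsAffine T := isAffine_of_isAffineHom y
  let iB : CommRingCat.of Ah ⟶ CommRingCat.of Γ(T, ⊤) := (Scheme.ΓSpecIso _).inv ≫ y.appTop
  letI : Algebra Ah Γ(T, ⊤) := iB.hom.toAlgebra
  letI : Algebra A Γ(T, ⊤) := (φA ≫ iB).hom.toAlgebra
  haveI : IsScalarTower A Ah Γ(T, ⊤) := IsScalarTower.of_algebraMap_eq fun _ => rfl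
  haveI : IsOpenImmersion s := MorphismProperty.of_isPullback sU (inferInstanceAs (IsOpenImmersion U.ι))
  haveI : IsOpenImmersion j := MorphismProperty.of_isPullback sqj.flip (inferInstanceAs (IsOpenImmersion s))
  haveI : QuasiCompact a := MorphismProperty.of_isPullback sq.flip (inferInstanceAs (QuasiCompact g))
  haveI : QuasiSeparated a := MorphismProperty.of_isPullback sq.flip (inferInstanceAs (QuasiSeparated g))
  haveI : CompactSpace W' := QuasiCompact.compactSpace_of_compactSpace a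
  haveI : QuasiSeparatedSpace W' := quasiSeparatedSpace_of_quasiSeparated a
  have hj : ∀ c : Ah, j.appTop (iB c) = ((Scheme.ΓSpecIso _).inv ≫ (b ≫ s).appTop) c := by
    intro c
    rw [← sqj.w, Scheme.Hom.comp_appTop]
    rfl
  have he1 : ∀ c : Ah, e (c ⊗ₜ 1) = j.appTop (iB c) := by
    intro c
    rw [he, map_one, mul_one, hj]
  let βr : Γ(T, ⊤) →+* Ah ⊗[A] Γ(W, ⊤) := e.symm.toRingHom.comp j.appTop.hom
  let β : Γ(T, ⊤) →ₐ[Ah] Ah ⊗[A] Γ(W, ⊤) :=
    { βr with commutes' := fun c => e.injective ((e.apply_symm_apply _).trans (he1 c).symm) }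
  have hβ : ∀ x, e (β x) = j.appTop x := fun x => e.apply_symm_apply _
  let ρ : A →+* Γ(T, ⊤) := (φA ≫ iB).hom
  have hρ : ∀ (x : A) (t : Γ(T, ⊤)), algebraMap A Ah x • t = ρ x * t := fun x t => Algebra.smul_def _ _
  have hW : ∀ x ∈ m, T.basicOpen (ρ x) ≤ j.opensRange := by
    intro x hx
    have h1 : ρ x = (y ≫ g).appTop ((Scheme.ΓSpecIso (CommRingCat.of A)).inv x) := by
      show ((φA ≫ (Scheme.ΓSpecIso _).inv) ≫ y.appTop) x = _
      rw [Scheme.ΓSpecIso_inv_naturality, Scheme.Hom.comp_appTop]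
      rfl
    rw [h1, ← Scheme.preimage_basicOpen_top]
    intro t ht
    have hu : g (y t) ∈ Set.range U.ι := by
      rw [Scheme.Opens.range_ι]
      exact hU x hx ht
    obtain ⟨u, hu⟩ := hu
    obtain ⟨u', -, hu'⟩ := Scheme.Pullback.exists_preimage_pullback u (y t) hu
    obtain ⟨w, hw, -⟩ := Scheme.Pullback.exists_preimage_pullback t (sU.isoPullback.inv u') (by
      rw [← Scheme.Hom.comp_apply, sU.isoPullback_inv_snd, hu'])
    refine ⟨sqj.isoPullback.inv w, ?_⟩
    rw [← Scheme.Hom.comp_apply, sqj.isoPullback_inv_fst, hw]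
  have hm : m.FG := (isNoetherian_def.mp inferInstance m)
  have hker : ∀ t, β t = 0 → ∃ k : ℕ, ∀ x ∈ m ^ k, algebraMap A Ah x • t = 0 := by
    intro t ht
    obtain ⟨k, hk⟩ := exists_pow_mul_eq_zero j ρ hm hW (b := t) (by rw [← hβ, ht, map_zero])
    exact ⟨k, fun x hx => (hρ x t).trans (hk x hx)⟩
  have hcok : ∀ z, ∃ k : ℕ, ∀ x ∈ m ^ k, algebraMap A Ah x • z ∈ β.toLinearMap.range := by
    intro z
    obtain ⟨k, hk⟩ := exists_pow_mul_mem_range j ρ hm hW (e z)
    refine ⟨k, fun x hx => ?_⟩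
    obtain ⟨t, ht⟩ := hk x hx
    refine ⟨t, e.injective ?_⟩
    show e (β t) = _
    rw [hβ, ht, Algebra.smul_def, map_mul, Algebra.TensorProduct.algebraMap_apply, Algebra.algebraMap_self,
      RingHom.id_apply, he1]
    rfl
  have hy' : T.isoSpec.hom ≫ Spec.map iB = y := toSpec_appTop y
  have hy'' : FEt.prop (Spec.map iB) := by
    have h : Spec.map iB = T.isoSpec.inv ≫ y := (Iso.eq_inv_comp _).2 hy'
    rw [h]
    exact MorphismProperty.comp_mem _ _ _ ⟨inferInstance, inferInstance⟩ hy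
  haveI : Module.Finite Ah Γ(T, ⊤) := RingHom.finite_algebraMap.mp ((IsFinite.SpecMap_iff iB).mp hy''.1)
  haveI : Algebra.Etale Ah Γ(T, ⊤) :=
    RingHom.etale_algebraMap.mp ((HasRingHomProperty.Spec_iff (P := @Etale)).mp hy''.2)
  obtain ⟨M, iM, iMB, iMS, hM, hpoM, hMS, hMβ⟩ := exists_model hdense β hker hcok
  let q : T ⟶ Spec M := toSpec T iMB
  have sqq : IsPullback q y (Spec.map iM) g := by
    have h1 : IsPullback (Spec.map iMB) (Spec.map iB) (Spec.map iM) g :=
      isPullback_SpecMap_of_isPushout _ _ _ _ hpoM.flip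
    have h2 : IsPullback T.isoSpec.hom y (Spec.map iB) (𝟙 _) :=
      IsPullback.of_horiz_isIso ⟨by rw [Category.comp_id]; exact hy'⟩
    have h3 := h2.paste_horiz h1
    rw [Category.id_comp] at h3
    exact h3
  let v : W ⟶ Spec M := toSpec W iMS
  have hv : v ≫ Spec.map iM = p ≫ U.ι := by
    rw [toSpec_map, hMS]
    exact toSpec_appTop f
  have hav : a ≫ v = j ≫ q := by
    rw [comp_toSpec, comp_toSpec]
    refine congrArg (toSpec _) (CommRingCat.hom_ext (RingHom.ext fun x => ?_))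
    show a.appTop (iMS.hom x) = j.appTop (iMB.hom x)
    rw [← hβ, ← hMβ, he, map_one, one_mul]
  let φ : W ⟶ pullback (Spec.map iM) U.ι := pullback.lift v p hv
  have hout : IsPullback ((a ≫ φ) ≫ pullback.fst (Spec.map iM) U.ι) b (Spec.map iM) (r ≫ U.ι) := by
    rw [Category.assoc, pullback.lift_fst, hav, sU.w]
    exact sqj.paste_horiz sqq
  have hcomm : (a ≫ φ) ≫ pullback.snd (Spec.map iM) U.ι = b ≫ r := by
    rw [Category.assoc, pullback.lift_snd]
    exact sW.w
  have hψ : IsPullback (a ≫ φ) b (pullback.snd (Spec.map iM) U.ι) r :=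
    hout.of_right hcomm (IsPullback.of_hasPullback _ _)
  have sqφ : IsPullback a (𝟙 W') φ (a ≫ φ) := by
    refine IsPullback.of_bot ?_ (by rw [Category.id_comp]) hψ
    rw [Category.id_comp, pullback.lift_snd]
    exact sW
  have hQ : (@Surjective ⊓ @Flat ⊓ @QuasiCompact : MorphismProperty Scheme.{u}) (a ≫ φ) :=
    ⟨⟨MorphismProperty.of_isPullback hψ.flip (MorphismProperty.of_isPullback sU.flip (inferInstanceAs (Surjective g))),
      MorphismProperty.of_isPullback hψ.flip (MorphismProperty.of_isPullback sU.flip (inferInstanceAs (Flat g)))⟩,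
      MorphismProperty.of_isPullback hψ.flip (MorphismProperty.of_isPullback sU.flip (inferInstanceAs (QuasiCompact g)))⟩
  haveI : IsIso φ :=
    MorphismProperty.of_isPullback_of_descendsAlong (P := MorphismProperty.isomorphisms Scheme.{u})
      (Q := @Surjective ⊓ @Flat ⊓ @QuasiCompact) sqφ.flip hQ (inferInstanceAs (IsIso (𝟙 W')))
  exact ⟨_, Spec.map iM, v, hM, IsPullback.of_iso_pullback ⟨hv⟩ (asIso φ) (pullback.lift_fst _ _ _)
    (pullback.lift_snd _ _ _)⟩

/-- **Descent of extensions.** -/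
theorem extends_of_extends
    (hdense : ∀ (k : ℕ) (c : Ah), ∃ a : A, c - algebraMap A Ah a ∈ (m ^ k).map (algebraMap A Ah))
    (hU : ∀ a ∈ m, (Spec (CommRingCat.of A)).basicOpen ((Scheme.ΓSpecIso (CommRingCat.of A)).inv a) ≤ U)
    (V : FEt.Cat (U : Scheme.{u})) (Y' : FEt.Cat (Spec (CommRingCat.of Ah)))
    (e' : (FEt.restrict (pullback.snd U.ι (Spec.map (CommRingCat.ofHom (algebraMap A Ah))))).obj Y' ≅
      (FEt.restrict (pullback.fst U.ι (Spec.map (CommRingCat.ofHom (algebraMap A Ah))))).obj V) :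
    ∃ Y : FEt.Cat (Spec (CommRingCat.of A)), Nonempty ((FEt.restrict U.ι).obj Y ≅ V) := by
  obtain ⟨Z, z, k, hz, hk⟩ := exists_isPullback_of_extends m U hdense hU V.hom V.prop Y'.hom Y'.prop
    (IsPullback.of_hasPullback U.ι _) (IsPullback.of_hasPullback V.hom _) (PurityGlueLib.isPullback_of_iso e')
  exact ⟨MorphismProperty.Over.mk ⊤ z hz, PurityGlueLib.nonempty_iso_of_isPullback hk⟩

end PurityDescLib
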