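import Mathlib

/-!
# An algebra over a dense flat extension which is defined over the base away from the closed point
-/

set_option autoImplicit false
set_option linter.style.haveILetI false
universe u

open scoped TensorProduct

noncomputable section

namespace PurityDescLib

variable {A : Type u} [CommRing A] {Ah : Type u} [CommRing Ah] [Algebra A Ah] {𝔪 : Ideal A}

section Torsion

variable (hdense : ∀ (k : ℕ) (c : Ah), ∃ a : A, c - algebraMap A Ah a ∈ (𝔪 ^ k).map (algebraMap A Ah))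
  {T : Type u} [AddCommGroup T] [Module Ah T] [Module A T] [IsScalarTower A Ah T]

theorem smul_eq_zero_of_mem_map {k : ℕ} {t : T} (ht : ∀ a ∈ 𝔪 ^ k, algebraMap A Ah a • t = 0) {c : Ah}
    (hc : c ∈ (𝔪 ^ k).map (algebraMap A Ah)) : c • t = 0 := by
  refine Submodule.span_induction ?_ ?_ ?_ ?_ hc
  · rintro _ ⟨a, ha, rfl⟩
    exact ht a ha
  · exact zero_smul Ah t
  · intro x y _ _ hx hy
    rw [add_smul, hx, hy, add_zero]
  · intro b x _ hx
    rw [smul_eq_mul, mul_smul, hx, smul_zero]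

theorem tmul_eq_zero_of_mem_map {k : ℕ} {t : T} (ht : ∀ a ∈ 𝔪 ^ k, algebraMap A Ah a • t = 0) {c : Ah}
    (hc : c ∈ (𝔪 ^ k).map (algebraMap A Ah)) : c ⊗ₜ[A] t = (0 : Ah ⊗[A] T) := by
  suffices h : ∀ b : Ah, (b * c) ⊗ₜ[A] t = (0 : Ah ⊗[A] T) by simpa using h 1
  refine Submodule.span_induction (p := fun c _ => ∀ b : Ah, (b * c) ⊗ₜ[A] t = (0 : Ah ⊗[A] T)) ?_ ?_ ?_ ?_ hc
  · rintro _ ⟨a, ha, rfl⟩ b
    rw [mul_comm, ← Algebra.smul_def, TensorProduct.smul_tmul, ← algebraMap_smul Ah a t, ht a ha,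
      TensorProduct.tmul_zero]
  · intro b
    rw [mul_zero, TensorProduct.zero_tmul]
  · intro x y _ _ hx hy b
    rw [mul_add, TensorProduct.add_tmul, hx, hy, add_zero]
  · intro z x _ hx b
    rw [smul_eq_mul, ← mul_assoc]
    exact hx _

include hdense in
/-- On torsion modules the base change is the module. -/
theorem tmul_eq_one_tmul (htor : ∀ t : T, ∃ k : ℕ, ∀ a ∈ 𝔪 ^ k, algebraMap A Ah a • t = 0) (c : Ah) (t : T) :
    c ⊗ₜ[A] t = (1 : Ah) ⊗ₜ[A] (c • t) := by
  obtain ⟨k, hk⟩ := htor t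
  obtain ⟨a, ha⟩ := hdense k c
  have h1 := tmul_eq_zero_of_mem_map hk ha
  have h2 := smul_eq_zero_of_mem_map hk ha
  rw [TensorProduct.sub_tmul, sub_eq_zero] at h1
  rw [sub_smul, sub_eq_zero] at h2
  rw [h1, h2, algebraMap_smul, Algebra.algebraMap_eq_smul_one, TensorProduct.smul_tmul]

include hdense in
theorem eq_one_tmul (htor : ∀ t : T, ∃ k : ℕ, ∀ a ∈ 𝔪 ^ k, algebraMap A Ah a • t = 0) (x : Ah ⊗[A] T) :
    ∃ t : T, x = 1 ⊗ₜ t := by
  induction x using TensorProduct.induction_on with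
  | zero => exact ⟨0, (TensorProduct.tmul_zero _ _).symm⟩
  | tmul c t => exact ⟨c • t, tmul_eq_one_tmul hdense htor c t⟩
  | add x y hx hy =>
    obtain ⟨s, rfl⟩ := hx
    obtain ⟨t, rfl⟩ := hy
    exact ⟨s + t, (TensorProduct.tmul_add _ _ _).symm⟩

end Torsion

variable {S : Type u} [CommRing S] [Algebra A S] {B' : Type u} [CommRing B'] [Algebra Ah B'] [Algebra A B']
  [IsScalarTower A Ah B'] (β : B' →ₐ[Ah] Ah ⊗[A] S)

/-- The pairs which agree over the extension. -/
def Mod : Subalgebra A (S × B') :=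
  AlgHom.equalizer ((Algebra.TensorProduct.includeRight : S →ₐ[A] Ah ⊗[A] S).comp (AlgHom.fst A S B'))
    ((β.restrictScalars A).comp (AlgHom.snd A S B'))

theorem mem_Mod (x : S × B') : x ∈ Mod β ↔ (1 : Ah) ⊗ₜ[A] x.1 = β x.2 := Iff.rfl

/-- The comparison. -/
def comparison : Ah ⊗[A] Mod β →ₐ[Ah] B' :=
  Algebra.TensorProduct.lift (Algebra.ofId Ah B') ((AlgHom.snd A S B').comp (Mod β).val) fun _ _ => Commute.all _ _

theorem comparison_tmul (c : Ah) (m : Mod β) : comparison β (c ⊗ₜ m) = c • (m : S × B').2 :=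
  (Algebra.smul_def c _).symm

variable [Module.Flat A Ah]
  (hdense : ∀ (k : ℕ) (c : Ah), ∃ a : A, c - algebraMap A Ah a ∈ (𝔪 ^ k).map (algebraMap A Ah))
  (hker : ∀ b : B', β b = 0 → ∃ k : ℕ, ∀ a ∈ 𝔪 ^ k, algebraMap A Ah a • b = 0)
  (hcok : ∀ z : Ah ⊗[A] S, ∃ k : ℕ, ∀ a ∈ 𝔪 ^ k, algebraMap A Ah a • z ∈ β.toLinearMap.range)

include hdense hker hcok in
/-- **The model over the base.** -/
theorem bijective_comparison : Function.Bijective (comparison β) := by
  let K := LinearMap.ker β.toLinearMap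
  let Q := (Ah ⊗[A] S) ⧸ β.toLinearMap.range
  let qm : Ah ⊗[A] S →ₗ[Ah] Q := β.toLinearMap.range.mkQ
  let p : Mod β →ₗ[A] S := ((AlgHom.fst A S B').comp (Mod β).val).toLinearMap
  let q : S →ₗ[A] Q := (qm.restrictScalars A).comp (Algebra.TensorProduct.includeRight : S →ₐ[A] Ah ⊗[A] S).toLinearMap
  have htorK : ∀ t : K, ∃ k : ℕ, ∀ a ∈ 𝔪 ^ k, algebraMap A Ah a • t = 0 := fun t => by
    obtain ⟨k, hk⟩ := hker t.1 t.2
    exact ⟨k, fun a ha => Subtype.ext (hk a ha)⟩
  have htorQ : ∀ t : Q, ∃ k : ℕ, ∀ a ∈ 𝔪 ^ k, algebraMap A Ah a • t = 0 := fun t => by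
    obtain ⟨z, rfl⟩ := Submodule.mkQ_surjective _ t
    obtain ⟨k, hk⟩ := hcok z
    exact ⟨k, fun a ha => (map_smul qm _ _).symm.trans ((Submodule.Quotient.mk_eq_zero _).2 (hk a ha))⟩
  let inK : K →ₗ[A] Mod β :=
    { toFun := fun t => ⟨(0, t.1), by rw [mem_Mod, TensorProduct.tmul_zero]; exact t.2.symm⟩
      map_add' := fun s t => Subtype.ext (Prod.ext (add_zero (0 : S)).symm rfl)
      map_smul' := fun a t => Subtype.ext (Prod.ext (smul_zero a).symm rfl) }
  have hex₁ : Function.Exact inK p := fun m => ⟨fun hm => by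
    have hm' : (m : S × B').1 = 0 := hm
    refine ⟨⟨(m : S × B').2, ?_⟩, Subtype.ext (Prod.ext hm'.symm rfl)⟩
    show β (m : S × B').2 = 0
    rw [← (mem_Mod β _).1 m.2, hm', TensorProduct.tmul_zero], fun ⟨t, ht⟩ => ht ▸ rfl⟩
  have hsec : ∀ z : Ah ⊗[A] Mod β, LinearMap.lTensor Ah p z = β (comparison β z) := by
    intro z
    induction z using TensorProduct.induction_on with
    | zero => rw [map_zero, map_zero, map_zero]
    | tmul c m =>
      rw [LinearMap.lTensor_tmul, comparison_tmul, map_smul, ← (mem_Mod β _).1 m.2, TensorProduct.smul_tmul',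
        smul_eq_mul, mul_one]
      rfl
    | add x y hx hy => rw [map_add, map_add, map_add, hx, hy]
  have hkerK : ∀ w : Ah ⊗[A] K, comparison β (LinearMap.lTensor Ah inK w) = 0 → w = 0 := by
    intro w hw
    obtain ⟨t, rfl⟩ := eq_one_tmul hdense htorK w
    rw [LinearMap.lTensor_tmul, comparison_tmul, one_smul] at hw
    have : t = 0 := Subtype.ext hw
    rw [this, TensorProduct.tmul_zero]
  refine ⟨(injective_iff_map_eq_zero (comparison β)).2 fun z hz => ?_, fun b => ?_⟩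
  · obtain ⟨w, rfl⟩ := (Module.Flat.lTensor_exact Ah hex₁ z).1 (by rw [hsec, hz, map_zero])
    rw [hkerK w hz, map_zero]
  · have hex₂ : Function.Exact p q := fun s => ⟨fun hs => by
      obtain ⟨b, hb⟩ := (Submodule.Quotient.mk_eq_zero _).1 (show qm ((1 : Ah) ⊗ₜ[A] s) = 0 from hs)
      exact ⟨⟨(s, b), hb.symm⟩, rfl⟩, fun ⟨m, hm⟩ => hm ▸ (Submodule.Quotient.mk_eq_zero _).2
        ⟨(m : S × B').2, ((mem_Mod β _).1 m.2).symm⟩⟩
    have hq0 : LinearMap.lTensor Ah q (β b) = 0 := by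
      let μ : Ah ⊗[A] Q →ₗ[A] Q := TensorProduct.lift ((LinearMap.lsmul Ah Q).restrictScalars₁₂ A A)
      have hμ : ∀ z : Ah ⊗[A] S, μ (LinearMap.lTensor Ah q z) = qm z := by
        intro z
        induction z using TensorProduct.induction_on with
        | zero => rw [map_zero, map_zero, map_zero]
        | tmul c s =>
          show c • qm ((1 : Ah) ⊗ₜ[A] s) = _
          rw [← map_smul, TensorProduct.smul_tmul', smul_eq_mul, mul_one]
        | add x y hx hy => rw [map_add, map_add, map_add, hx, hy]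
      obtain ⟨t, ht⟩ := eq_one_tmul hdense htorQ (LinearMap.lTensor Ah q (β b))
      have h1 := hμ (β b)
      rw [ht, show μ ((1 : Ah) ⊗ₜ[A] t) = t from one_smul Ah t,
        show qm (β b) = 0 from (Submodule.Quotient.mk_eq_zero _).2 ⟨b, rfl⟩] at h1
      rw [ht, h1, TensorProduct.tmul_zero]
    obtain ⟨z, hz⟩ := (Module.Flat.lTensor_exact Ah hex₂ (β b)).1 hq0
    have hK : b - comparison β z ∈ K := by
      show β (b - comparison β z) = 0
      rw [map_sub, ← hsec, hz, sub_self]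
    refine ⟨z + (1 : Ah) ⊗ₜ inK ⟨_, hK⟩, ?_⟩
    rw [map_add, comparison_tmul, one_smul]
    exact add_sub_cancel _ _

end PurityDescLib
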